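import Groth.Agent.MorLib.RingUnivHomeo
import Mathlib.RingTheory.Adjoin.Basic

/-!
# Relative weak normalization and seminormalization as subalgebras
-/

set_option autoImplicit false
set_option linter.style.haveILetI false

open CategoryTheory AlgebraicGeometry

namespace Groth.Agent.WeakNorm17

open Groth.Agent.MorLib.RUH

universe u

variable {A B : Type u} [CommRing A] [CommRing B] [Algebra A B]

/-- A condition on ring maps stable under the formation of the generated subalgebra: trivial residue
field extensions. -/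
def ResTriv {C D : Type u} [CommRing C] [CommRing D] (φ : C →+* D) : Prop :=
  ∀ (q : Spec (CommRingCat.of D)) (b : D), ∃ a s : C, φ s ∉ q.asIdeal ∧ φ s * b - φ a ∈ q.asIdeal

theorem resTriv_iff {C D : Type u} [CommRing C] [CommRing D] (φ : C →+* D) :
    ResTriv φ ↔ ∀ q : Spec (CommRingCat.of D),
      Function.Surjective ((Spec.map (CommRingCat.ofHom φ)).residueFieldMap q) :=
  ⟨fun h q => (residueFieldMap_surjective_iff φ q).mpr (h q),
    fun h q => (residueFieldMap_surjective_iff φ q).mp (h q)⟩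

variable (A B) in
/-- The union of the images of the test algebras. -/
def gens (P : ∀ (C : Type u) [CommRing C] [Algebra A C], Prop) : Set B :=
  {b | ∃ (C : Type u) (_ : CommRing C) (_ : Algebra A C) (g : C →ₐ[A] B), P C ∧ b ∈ g.range}

theorem range_le_adjoin (P : ∀ (C : Type u) [CommRing C] [Algebra A C], Prop)
    {C : Type u} [CommRing C] [Algebra A C] (g : C →ₐ[A] B) (hC : P C) :
    g.range ≤ Algebra.adjoin A (gens A B P) :=
  fun _ hb => Algebra.subset_adjoin ⟨C, _, _, g, hC, hb⟩

/-- The map from a test algebra to the generated subalgebra. -/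
noncomputable def toAdjoin (P : ∀ (C : Type u) [CommRing C] [Algebra A C], Prop)
    {C : Type u} [CommRing C] [Algebra A C] (g : C →ₐ[A] B) (hC : P C) :
    C →ₐ[A] Algebra.adjoin A (gens A B P) :=
  g.codRestrict _ fun c => range_le_adjoin P g hC ⟨c, rfl⟩

theorem induction_adjoin (P : ∀ (C : Type u) [CommRing C] [Algebra A C], Prop)
    (T : Subalgebra A (Algebra.adjoin A (gens A B P)))
    (h : ∀ (C : Type u) [CommRing C] [Algebra A C] (g : C →ₐ[A] B) (hC : P C) (c : C),
      toAdjoin P g hC c ∈ T)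
    (x : Algebra.adjoin A (gens A B P)) : x ∈ T := by
  obtain ⟨b, hb⟩ := x
  induction hb using Algebra.adjoin_induction with
  | mem b hb =>
    obtain ⟨C, _, _, g, hC, c, rfl⟩ := hb
    exact h C g hC c
  | algebraMap a => exact T.algebraMap_mem a
  | add b b' _ _ h1 h2 => exact T.add_mem h1 h2
  | mul b b' _ _ h1 h2 => exact T.mul_mem h1 h2

variable [IsDominant (Spec.map (CommRingCat.ofHom (algebraMap A B)))]

theorem isUnivHomeo_adjoin (P : ∀ (C : Type u) [CommRing C] [Algebra A C], Prop)
    (hP : ∀ (C : Type u) [CommRing C] [Algebra A C], P C →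
      FlatMor.IsUnivHomeo (Spec.map (CommRingCat.ofHom (algebraMap A C)))) :
    FlatMor.IsUnivHomeo (Spec.map (CommRingCat.ofHom (algebraMap A (Algebra.adjoin A (gens A B P))))) := by
  set B' := Algebra.adjoin A (gens A B P)
  have hint : (algebraMap A B').IsIntegral := fun x =>
    induction_adjoin P (integralClosure A B') (fun C _ _ g hC c => by
      haveI : Algebra.IsIntegral A C := ⟨((isUnivHomeo_SpecMap_iff _).mp (hP C hC)).1⟩
      exact (Algebra.IsIntegral.isIntegral (R := A) c).map (toAdjoin P g hC)) x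
  refine (isUnivHomeo_SpecMap_iff _).mpr ⟨hint, fun K _ f g hfg => ?_, ?_⟩
  · letI : Algebra A K := (f.comp (algebraMap A B')).toAlgebra
    let f' : B' →ₐ[A] K := { f with commutes' := fun a => rfl }
    let g' : B' →ₐ[A] K := { g with commutes' := fun a => (RingHom.congr_fun hfg a).symm }
    refine RingHom.ext fun x => induction_adjoin P (AlgHom.equalizer f' g') (fun C _ _ gC hC c => ?_) x
    refine RingHom.congr_fun (((isUnivHomeo_SpecMap_iff _).mp (hP C hC)).2.1 K
      (f.comp (toAdjoin P gC hC).toRingHom) (g.comp (toAdjoin P gC hC).toRingHom) ?_) c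
    rw [RingHom.comp_assoc, RingHom.comp_assoc, AlgHom.toRingHom_eq_coe, AlgHom.comp_algebraMap, hfg]
  · haveI : IsIntegralHom (Spec.map (CommRingCat.ofHom (algebraMap A B'))) :=
      IsIntegralHom.SpecMap_iff.mpr hint
    have hclosed := (Spec.map (CommRingCat.ofHom (algebraMap A B'))).isClosedMap.isClosed_range
    intro p
    have hsub : Set.range (Spec.map (CommRingCat.ofHom (algebraMap A B))) ⊆
        Set.range (Spec.map (CommRingCat.ofHom (algebraMap A B'))) := by
      have : Spec.map (CommRingCat.ofHom (algebraMap A B)) =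
          Spec.map (CommRingCat.ofHom B'.val.toRingHom) ≫ Spec.map (CommRingCat.ofHom (algebraMap A B')) := by
        rw [← Spec.map_comp]; rfl
      rw [this, Scheme.Hom.comp_base, TopCat.coe_comp]
      exact Set.range_comp_subset_range _ _
    have := closure_minimal hsub hclosed
      ((Spec.map (CommRingCat.ofHom (algebraMap A B))).denseRange p)
    exact this

theorem resTriv_adjoin (P : ∀ (C : Type u) [CommRing C] [Algebra A C], Prop)
    (hP : ∀ (C : Type u) [CommRing C] [Algebra A C], P C → ResTriv (algebraMap A C)) :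
    ResTriv (algebraMap A (Algebra.adjoin A (gens A B P))) := by
  set B' := Algebra.adjoin A (gens A B P)
  intro q
  let ι := algebraMap A B'
  have hmul : ∀ {x y : B'}, (∃ a s : A, ι s ∉ q.asIdeal ∧ ι s * x - ι a ∈ q.asIdeal) →
      (∃ a s : A, ι s ∉ q.asIdeal ∧ ι s * y - ι a ∈ q.asIdeal) →
      (∃ a s : A, ι s ∉ q.asIdeal ∧ ι s * (x * y) - ι a ∈ q.asIdeal) := by
    rintro x y ⟨a, s, hs, ha⟩ ⟨b, t, ht, hb⟩
    refine ⟨a * b, s * t, fun h => ?_, ?_⟩
    · rw [map_mul] at h; exact (q.isPrime.mem_or_mem h).elim hs ht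
    · have : ι (s * t) * (x * y) - ι (a * b) =
          (ι s * x - ι a) * (ι t * y) + ι a * (ι t * y - ι b) := by simp only [map_mul]; ring
      rw [this]
      exact Ideal.add_mem _ (Ideal.mul_mem_right _ _ ha) (Ideal.mul_mem_left _ _ hb)
  have hadd : ∀ {x y : B'}, (∃ a s : A, ι s ∉ q.asIdeal ∧ ι s * x - ι a ∈ q.asIdeal) →
      (∃ a s : A, ι s ∉ q.asIdeal ∧ ι s * y - ι a ∈ q.asIdeal) →
      (∃ a s : A, ι s ∉ q.asIdeal ∧ ι s * (x + y) - ι a ∈ q.asIdeal) := by
    rintro x y ⟨a, s, hs, ha⟩ ⟨b, t, ht, hb⟩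
    refine ⟨t * a + s * b, s * t, fun h => ?_, ?_⟩
    · rw [map_mul] at h; exact (q.isPrime.mem_or_mem h).elim hs ht
    · have : ι (s * t) * (x + y) - ι (t * a + s * b) =
          ι t * (ι s * x - ι a) + ι s * (ι t * y - ι b) := by simp only [map_mul, map_add]; ring
      rw [this]
      exact Ideal.add_mem _ (Ideal.mul_mem_left _ _ ha) (Ideal.mul_mem_left _ _ hb)
  have halg : ∀ r : A, ∃ a s : A, ι s ∉ q.asIdeal ∧ ι s * ι r - ι a ∈ q.asIdeal :=
    fun r => ⟨r, 1, by rw [map_one]; exact q.asIdeal.one_notMem, by rw [map_one, one_mul, sub_self]; exact zero_mem _⟩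
  let T : Subalgebra A B' :=
    { carrier := {x | ∃ a s : A, ι s ∉ q.asIdeal ∧ ι s * x - ι a ∈ q.asIdeal}
      mul_mem' := hmul
      add_mem' := hadd
      algebraMap_mem' := halg }
  intro x
  refine induction_adjoin P T (fun C _ _ g hC c => ?_) x
  obtain ⟨a, s, hs, ha⟩ := hP C hC (PrimeSpectrum.comap (toAdjoin P g hC).toRingHom q) c
  refine ⟨a, s, fun h => hs ?_, ?_⟩
  · change toAdjoin P g hC (algebraMap A C s) ∈ q.asIdeal
    rwa [AlgHom.commutes]
  · have h' : toAdjoin P g hC (algebraMap A C s * c - algebraMap A C a) ∈ q.asIdeal := ha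
    rwa [map_sub, map_mul, AlgHom.commutes, AlgHom.commutes] at h'

end Groth.Agent.WeakNorm17
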